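import Cfsg.Agent.FusionExtraCentre.WeaklyClosed

/-!
# Normality of strongly closed subgroups with derived and Frattini subgroup of order `p`
-/

set_option autoImplicit false
set_option linter.style.haveILetI false

namespace CfsgLib.FusionExtraCentre

open Cfsg Cfsg.FusionSystem CfsgLib.Fusion
open scoped commutatorElement

theorem exists_type_zero_copy (G : Type*) [Group G] [Finite G] :
    ∃ (E : Type) (_ : Group E) (_ : Finite E), Nonempty (G ≃* E) :=
  let e : {_i : Fin (Nat.card G) // True} ≃ G := (Equiv.subtypeUnivEquiv fun _ => trivial).trans (Finite.equivFin G).symm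
  letI : Group ({_i : Fin (Nat.card G) // True}) := e.group
  ⟨{_i : Fin (Nat.card G) // True}, inferInstance, inferInstance, ⟨(e.mulEquiv).symm⟩⟩

theorem isNormal_of_commutator_prime {Ω : Type*} [Group Ω] {S : Subgroup Ω} [Finite S] {p : ℕ}
    [Fact p.Prime] (hS : IsPGroup p S) {F : FusionSystem S} (hF : F.IsSaturated p)
    {P : Subgroup Ω} (hP : F.StronglyClosed P)
    (hfr : frattini ↥P = commutator ↥P) (hcard : Nat.card ↥(commutator ↥P) = p)
    (h2 : p = 2 → ¬ ∃ (A : Type) (_ : CommGroup A), (∀ a : A, a ^ 2 = 1) ∧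
      Nonempty (↥P ≃* DihedralGroup 4 × A))
    (hodd : p ≠ 2 → ¬ ∃ (E : Type) (_ : Group E) (A : Type) (_ : CommGroup A),
      IsExtraspecial p E ∧ Nat.card E = p ^ 3 ∧ Monoid.exponent E = p ∧ (∀ a : A, a ^ p = 1) ∧
      Nonempty (↥P ≃* E × A)) : F.IsNormal P := by
  have hp : p.Prime := Fact.out
  haveI := finite_of_le hP.1
  have hPp : IsPGroup p P := hS.to_le hP.1
  have hZc : commutator ↥P ≤ Subgroup.center ↥P := by
    haveI : Group.IsNilpotent ↥P := hPp.isNilpotent
    haveI : Fact (Nat.card ↥(commutator ↥P)).Prime := ⟨hcard.symm ▸ hp⟩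
    have hne : commutator ↥P ≠ ⊥ := fun h =>
      hp.ne_one (by rw [← hcard, h, Subgroup.card_bot])
    rcases Subgroup.eq_bot_or_eq_top_of_prime_card
      ((Subgroup.center ↥P).subgroupOf (commutator ↥P)) with h | h
    · refine absurd ?_ (CfsgLib.Solvable.inf_center_ne_bot hne)
      rw [eq_bot_iff]
      intro x hx
      obtain ⟨hx1, hx2⟩ := Subgroup.mem_inf.1 hx
      have : (⟨x, hx1⟩ : commutator ↥P) ∈ (Subgroup.center ↥P).subgroupOf _ := hx2
      rw [h, Subgroup.mem_bot] at this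
      exact Subgroup.mem_bot.2 (congrArg Subtype.val this)
    · intro x hx
      exact (h ▸ Subgroup.mem_top _ :
        (⟨x, hx⟩ : commutator ↥P) ∈ (Subgroup.center ↥P).subgroupOf _)
  have hw := weaklyClosed_commutator hS hF hP hfr hcard fun g y hgen hMc hMe hgy hgp => by
    obtain ⟨D, A, ⟨e⟩, hAc, hAe, hDcard, hDna, hDexp, hDd⟩ :=
      exists_split hPp hcard hZc hgen hMc hMe hgy hgp
    obtain ⟨d, hd⟩ := IsPGroup.iff_card.1 (hPp.to_subgroup A)
    obtain ⟨fA⟩ := CfsgLib.FusionEssential.exists_mulEquiv_fin_of_elementary hAc hAe hd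
    have hAexp : ∀ a : Multiplicative (Fin d → ZMod p), a ^ p = 1 := fun a => by
      rw [← fA.apply_symm_apply a, ← map_pow, hAe, map_one]
    by_cases hp2 : p = 2
    · subst hp2
      obtain ⟨fD⟩ := hDd rfl
      exact h2 rfl ⟨_, inferInstance, hAexp, ⟨e.trans (fD.prodCongr fA)⟩⟩
    · obtain ⟨E, hE, hEf, ⟨fD⟩⟩ := exists_type_zero_copy ↥D
      have hEcard : Nat.card E = p ^ 3 := by rw [← Nat.card_congr fD.toEquiv, hDcard]
      have hEexp : ∀ x : E, x ^ p = 1 := fun x => by
        rw [← fD.apply_symm_apply x, ← map_pow, hDexp hp2, map_one]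
      have hEna : ¬ IsMulCommutative E := fun h => hDna ⟨⟨fun a b => fD.injective (by
        rw [map_mul, map_mul]; exact h.is_comm.comm _ _)⟩⟩
      obtain ⟨hz, hcz, hfz, -⟩ := CfsgLib.FusionEssential.center_of_card_cube hEcard hEna
      haveI : Nontrivial E := Finite.one_lt_card_iff_nontrivial.1 (by
        rw [hEcard]; exact Nat.one_lt_pow (by norm_num) hp.one_lt)
      exact hodd hp2 ⟨E, hE, _, inferInstance, ⟨⟨IsPGroup.of_card hEcard, hfz, hcz⟩, hz⟩, hEcard,
        (Monoid.exponent_eq_prime_iff hp).2 (fun g hg => orderOf_eq_prime (hEexp g) hg),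
        hAexp, ⟨e.trans (fD.prodCongr fA)⟩⟩
  refine CfsgLib.FusionSeries.isNormal_of_weaklyClosed_series hS hF hP 2 ![⊥, ⁅P, P⁆, P] rfl rfl
    ?_ ?_ ?_
  · refine Fin.monotone_iff_le_succ.2 fun i => ?_
    fin_cases i
    · exact bot_le
    · exact P.commutator_le_self
  · intro i
    fin_cases i
    · show ⁅⁅P, P⁆, P⁆ ≤ ⊥
      rw [le_bot_iff, Subgroup.commutator_eq_bot_iff_le_centralizer]
      intro z hz
      rw [← P.map_subtype_commutator] at hz
      obtain ⟨z', hz', rfl⟩ := hz
      exact Subgroup.mem_centralizer_iff.2 fun a ha =>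
        congrArg Subtype.val (Subgroup.mem_center_iff.1 (hZc hz') ⟨a, ha⟩)
    · exact le_of_eq rfl
  · intro i
    fin_cases i
    · show F.WeaklyClosed ⊥
      exact ⟨bot_le, fun φ hφ => by
        rw [eq_bot_iff]
        rintro _ ⟨x, rfl⟩
        rw [show x = 1 from Subtype.ext (Subgroup.mem_bot.1 x.2), map_one]
        exact one_mem _⟩
    · exact hw

end CfsgLib.FusionExtraCentre
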