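import Cfsg.Agent.FusionEssential.OrderCube
import Cfsg.Agent.FusionEssential.Aut
import Cfsg.Agent.TwoGroups.Models
import Mathlib.GroupTheory.Exponent

/-!
# Groups with derived group of order `p` and an elementary abelian maximal subgroup which split
-/

set_option autoImplicit false
set_option linter.style.haveILetI false

namespace CfsgLib.FusionExtraCentre

open Cfsg
open scoped commutatorElement

variable {G : Type*} [Group G] [Finite G] {p : ℕ} [hp : Fact p.Prime]

/-- In an elementary abelian subgroup every subgroup has a complement. -/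
theorem exists_complement_of_elementary {C Z : Subgroup G} (hC : ∀ a ∈ C, ∀ b ∈ C, a * b = b * a)
    (hexp : ∀ a ∈ C, a ^ p = 1) (hZ : Z ≤ C) :
    ∃ A ≤ C, A ⊓ Z = ⊥ ∧ A ⊔ Z = C := by
  obtain ⟨A, ⟨hA, hAZ⟩, hmax⟩ := ({A : Subgroup G | A ≤ C ∧ A ⊓ Z = ⊥}).toFinite.exists_maximal
    ⟨⊥, bot_le, bot_inf_eq Z⟩
  refine ⟨A, hA, hAZ, le_antisymm (sup_le hA hZ) fun c hc => by_contra fun hcn => ?_⟩
  let A' : Subgroup G := A ⊔ Subgroup.zpowers c
  have hA' : A' ≤ C := sup_le hA (Subgroup.zpowers_le.2 hc)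
  have hA'Z : A' ⊓ Z = ⊥ := by
    rw [eq_bot_iff]
    intro x hx'
    obtain ⟨hx, hxZ⟩ : x ∈ A ⊔ Subgroup.zpowers c ∧ x ∈ Z := ⟨hx'.1, hx'.2⟩
    have hcA : A ≤ Subgroup.normalizer (Subgroup.zpowers c : Set G) := fun a ha => by
      have hac : Commute a c := hC a (hA ha) c hc
      rw [Subgroup.mem_normalizer_iff]
      intro n
      constructor
      · rintro ⟨k, rfl⟩
        exact ⟨k, by rw [(hac.zpow_right k).eq, mul_inv_cancel_right]⟩
      · rintro ⟨k, hk⟩
        refine ⟨k, ?_⟩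
        change c ^ k = a * n * a⁻¹ at hk
        show c ^ k = n
        rw [eq_mul_inv_iff_mul_eq, ← (hac.zpow_right k).eq] at hk
        exact mul_left_cancel hk
    rw [← SetLike.mem_coe, Subgroup.coe_mul_of_left_le_normalizer_right A _ hcA] at hx
    obtain ⟨a, ha, _, ⟨k, rfl⟩, rfl⟩ := hx
    change a * c ^ k ∈ Z at hxZ
    show a * c ^ k ∈ (⊥ : Subgroup G)
    by_cases hk : c ^ k = 1
    · rw [show a * c ^ k = a by rw [hk, mul_one]] at hxZ ⊢
      exact hAZ.le (Subgroup.mem_inf.2 ⟨ha, hxZ⟩)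
    · have hk2 : c ∈ Subgroup.zpowers (c ^ k) := by
        have hord : orderOf c = p := orderOf_eq_prime (hexp c hc) (fun h => hk (by rw [h, one_zpow]))
        haveI : Fact (Nat.card (Subgroup.zpowers c)).Prime :=
          ⟨by rw [Nat.card_zpowers, hord]; exact hp.1⟩
        obtain ⟨l, hl⟩ := mem_zpowers_of_prime_card (G := Subgroup.zpowers c) rfl
          (g := ⟨c ^ k, k, rfl⟩) (g' := ⟨c, Subgroup.mem_zpowers c⟩)
          (fun h => hk (congrArg Subtype.val h))
        exact ⟨l, congrArg Subtype.val hl⟩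
      refine absurd ?_ hcn
      refine (Subgroup.zpowers_le.2 ?_) hk2
      have h1 : c ^ k = a⁻¹ * (a * c ^ k) := by rw [inv_mul_cancel_left]
      rw [h1]
      exact mul_mem (Subgroup.mem_sup_left (inv_mem ha)) (Subgroup.mem_sup_right hxZ)
  exact hcn (Subgroup.mem_sup_left
    (hmax ⟨hA', hA'Z⟩ le_sup_left (Subgroup.mem_sup_right (Subgroup.mem_zpowers c))))

/-- The decomposition `G = D × A` when `G` has an involution or element of order `p` outside the
elementary abelian maximal subgroup `C_G(y)`. -/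
theorem exists_split (hG : IsPGroup p G) (hZ : Nat.card (commutator G) = p)
    (hZc : commutator G ≤ Subgroup.center G) {g y : G}
    (hgen : ∀ x, ∃ (i : ℕ) (m : G), m * y = y * m ∧ x = g ^ i * m)
    (hMc : ∀ a b : G, a * y = y * a → b * y = y * b → a * b = b * a)
    (hMe : ∀ a : G, a * y = y * a → a ^ p = 1) (hgy : ⁅g, y⁆ ≠ 1) (hgp : g ^ p = 1) :
    ∃ D A : Subgroup G, Nonempty (G ≃* D × A) ∧ (∀ a b : A, a * b = b * a) ∧
      (∀ a : A, a ^ p = 1) ∧ Nat.card D = p ^ 3 ∧ ¬ IsMulCommutative D ∧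
      (p ≠ 2 → ∀ x : D, x ^ p = 1) ∧ (p = 2 → Nonempty (D ≃* DihedralGroup 4)) := by
  set Z := commutator G with hZdef
  have hc : ∀ a b : G, ⁅a, b⁆ ∈ Z := fun a b => by
    rw [hZdef, commutator_def]
    exact Subgroup.commutator_mem_commutator (Subgroup.mem_top a) (Subgroup.mem_top b)
  have hcent : ∀ z ∈ Z, ∀ a : G, a * z = z * a := fun z hz a =>
    Subgroup.mem_center_iff.1 (hZc hz) a
  have hZe : ∀ z ∈ Z, z ^ p = 1 := fun z hz => hMe z (hcent z hz y).symm
  haveI : Z.Normal := by rw [hZdef]; infer_instance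
  -- elements of the centre commute with `y`; `g` moves `y`
  have hgy' : ¬ g * y = y * g := fun h => hgy (commutatorElement_eq_one_iff_mul_comm.2 h)
  let M : Subgroup G := Subgroup.centralizer {y}
  have hM : ∀ a, a ∈ M ↔ a * y = y * a := fun a => by
    simp [M, Subgroup.mem_centralizer_iff, eq_comm]
  obtain ⟨A, hAC, hAZ, hAZC⟩ := exists_complement_of_elementary (p := p) (C := Subgroup.center G)
    (Z := Z) (fun a _ b hb => Subgroup.mem_center_iff.1 hb a)
    (fun a ha => hMe a (Subgroup.mem_center_iff.1 ha y).symm) hZc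
  let π := QuotientGroup.mk' Z
  have hπc : ∀ a b : G, π a * π b = π b * π a := fun a b => by
    rw [← commutatorElement_eq_one_iff_mul_comm, ← map_commutatorElement]
    exact (QuotientGroup.eq_one_iff _).2 (hc a b)
  let D : Subgroup G :=
    { carrier := {d | ∃ (i j : ℤ), π d = π g ^ i * π y ^ j}
      one_mem' := ⟨0, 0, by simp⟩
      mul_mem' := by
        rintro a b ⟨i, j, ha⟩ ⟨i', j', hb⟩
        refine ⟨i + i', j + j', ?_⟩
        rw [map_mul, ha, hb, zpow_add, zpow_add]
        have h : Commute (π y ^ j) (π g ^ i') := Commute.zpow_zpow (hπc y g) j i'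
        rw [mul_assoc, ← mul_assoc (π y ^ j), h.eq]
        simp only [mul_assoc]
      inv_mem' := by
        rintro a ⟨i, j, ha⟩
        refine ⟨-i, -j, ?_⟩
        rw [map_inv, ha, mul_inv_rev, zpow_neg, zpow_neg]
        exact ((Commute.zpow_zpow (hπc y g) j i).inv_inv).eq }
  have hgD : g ∈ D := ⟨1, 0, by simp⟩
  have hyD : y ∈ D := ⟨0, 1, by simp⟩
  have hZD : Z ≤ D := fun z hz => ⟨0, 0, by
    rw [zpow_zero, zpow_zero, mul_one]; exact (QuotientGroup.eq_one_iff _).2 hz⟩
  -- `g ^ i ∈ M` forces `g ^ i = 1`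
  have hgM : ∀ i : ℤ, g ^ i * y = y * g ^ i → g ^ i = 1 := by
    intro i hi
    by_contra hne
    have hord : orderOf g = p := orderOf_eq_prime hgp (fun h => hne (by rw [h, one_zpow]))
    haveI : Fact (Nat.card (Subgroup.zpowers g)).Prime :=
      ⟨by rw [Nat.card_zpowers, hord]; exact hp.1⟩
    obtain ⟨l, hl⟩ := mem_zpowers_of_prime_card (G := Subgroup.zpowers g) rfl
      (g := ⟨g ^ i, i, rfl⟩) (g' := ⟨g, Subgroup.mem_zpowers g⟩)
      (fun h => hne (congrArg Subtype.val h))
    have hl' : (g ^ i) ^ l = g := congrArg Subtype.val hl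
    exact hgy' (hl' ▸ ((show Commute (g ^ i) y from hi).zpow_left l).eq)
  -- central elements of `D` lie in `Z`
  have hDcent : ∀ d ∈ D, d ∈ Subgroup.center G → d ∈ Z := by
    rintro d ⟨i, j, hd⟩ hdc
    rw [← map_zpow, ← map_zpow, ← map_mul] at hd
    have hn : (g ^ i * y ^ j)⁻¹ * d ∈ Z := QuotientGroup.eq.1 hd.symm
    have hdy : g ^ i * y = y * g ^ i := by
      have h1 : Commute (g ^ i * y ^ j) y := by
        have : g ^ i * y ^ j = d * ((g ^ i * y ^ j)⁻¹ * d)⁻¹ := by
          rw [mul_inv_rev, inv_inv, mul_inv_cancel_left]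
        rw [this]
        exact (show Commute d y from (Subgroup.mem_center_iff.1 hdc y).symm).mul_left
          (show Commute _ y from (hcent _ (inv_mem hn) y).symm)
      have h2 := h1.mul_left (((Commute.refl y).zpow_left j).inv_left)
      rw [mul_inv_cancel_right] at h2
      exact h2
    rw [hgM i hdy, one_mul] at hn
    have hyc : ⁅g, y ^ j⁆ = 1 := by
      have : y ^ j = d * ((y ^ j)⁻¹ * d)⁻¹ := by rw [mul_inv_rev, inv_inv, mul_inv_cancel_left]
      rw [this, commutatorElement_eq_one_iff_commute]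
      exact (show Commute g d from Subgroup.mem_center_iff.1 hdc g).mul_right
        (hcent _ (inv_mem hn) g)
    by_cases hj : y ^ j = 1
    · rwa [hj, inv_one, one_mul] at hn
    · exfalso
      have hord : orderOf y = p := orderOf_eq_prime (hMe y rfl) (fun h => hj (by rw [h, one_zpow]))
      haveI : Fact (Nat.card (Subgroup.zpowers y)).Prime :=
        ⟨by rw [Nat.card_zpowers, hord]; exact hp.1⟩
      obtain ⟨l, hl⟩ := mem_zpowers_of_prime_card (G := Subgroup.zpowers y) rfl
        (g := ⟨y ^ j, j, rfl⟩) (g' := ⟨y, Subgroup.mem_zpowers y⟩)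
        (fun h => hj (congrArg Subtype.val h))
      have hl' : (y ^ j) ^ l = y := congrArg Subtype.val hl
      refine hgy ?_
      rw [← hl', commutatorElement_eq_one_iff_commute]
      exact (commutatorElement_eq_one_iff_commute.1 hyc).zpow_right l
  -- the centre is `C_M(g)`, of index `p` in `M`
  have hcenter : ∀ a : G, a * y = y * a → a * g = g * a → a ∈ Subgroup.center G := by
    intro a hay hag
    rw [Subgroup.mem_center_iff]
    intro x
    obtain ⟨i, m, hm, rfl⟩ := hgen x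
    exact (((show Commute a g from hag).pow_right i).mul_right (hMc a m hay hm)).eq.symm
  let τ : G →* G := MonoidHom.mk' (fun x => ⁅g, x⁆) fun a b => by
    have h : ⁅g, a * b⁆ = ⁅g, a⁆ * (a * ⁅g, b⁆ * a⁻¹) := by
      simp only [commutatorElement_def]; group
    rw [h, hcent _ (hc g b) a, mul_inv_cancel_right]
  let σ : G →* G := MonoidHom.mk' (fun x => ⁅x, y⁆) fun a b => by
    have h : ⁅a * b, y⁆ = a * ⁅b, y⁆ * a⁻¹ * ⁅a, y⁆ := by
      simp only [commutatorElement_def]; group
    rw [h, hcent _ (hc b y) a, mul_inv_cancel_right, hcent _ (hc a y) ⁅b, y⁆]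
  haveI : Fact (Nat.card Z).Prime := ⟨hZ.symm ▸ hp.1⟩
  have hprime : ∀ R : Subgroup G, R ≤ Z → ∀ x ∈ R, x ≠ 1 → R = Z := by
    intro R hR x hx hx1
    rcases Subgroup.eq_bot_or_eq_top_of_prime_card (R.subgroupOf Z) with h | h
    · have h1 : (⟨x, hR hx⟩ : Z) ∈ R.subgroupOf Z := hx
      rw [h, Subgroup.mem_bot] at h1
      exact absurd (congrArg Subtype.val h1) hx1
    · exact le_antisymm hR fun w hw => (h ▸ Subgroup.mem_top _ : (⟨w, hw⟩ : Z) ∈ R.subgroupOf Z)
  have hσker : σ.ker = M := by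
    ext a
    rw [MonoidHom.mem_ker, hM]
    exact commutatorElement_eq_one_iff_mul_comm
  have hMidx : M.index = p := by
    rw [← hσker, Subgroup.index_ker, hprime σ.range (by rintro _ ⟨a, rfl⟩; exact hc a y) _
      ⟨g, rfl⟩ hgy, hZ]
  have hcM : Subgroup.center G ≤ M := fun a ha =>
    (hM a).2 (Subgroup.mem_center_iff.1 ha y).symm
  have hcidx : (Subgroup.center G).relIndex M = p := by
    have hker : (τ.comp M.subtype).ker = (Subgroup.center G).subgroupOf M := by
      ext a
      rw [MonoidHom.mem_ker, Subgroup.mem_subgroupOf]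
      refine ⟨fun h => hcenter a ((hM _).1 a.2) (commutatorElement_eq_one_iff_mul_comm.1 h).symm,
        fun h => commutatorElement_eq_one_iff_mul_comm.2 (Subgroup.mem_center_iff.1 h g)⟩
    rw [Subgroup.relIndex, ← hker, Subgroup.index_ker, hprime (τ.comp M.subtype).range
      (by rintro _ ⟨a, rfl⟩; exact hc g a) _ ⟨⟨y, (hM y).2 rfl⟩, rfl⟩ hgy, hZ]
  -- the product
  let μ : D × A →* G := MonoidHom.mk' (fun x => (x.1 : G) * x.2) fun a b => by
    show (a.1 : G) * b.1 * ((a.2 : G) * b.2) = a.1 * a.2 * (b.1 * b.2)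
    rw [mul_assoc, ← mul_assoc (b.1 : G),
      Subgroup.mem_center_iff.1 (hAC a.2.2) (b.1 : G)]
    simp only [mul_assoc]
  have hDA : ∀ d ∈ D, d ∈ A → d = 1 := fun d hd hdA =>
    Subgroup.mem_bot.1 (hAZ.le ⟨hdA, hDcent d hd (hAC hdA)⟩)
  have hμi : Function.Injective μ := by
    rw [injective_iff_map_eq_one]
    rintro ⟨d, a⟩ h
    have h' : (d : G) * a = 1 := h
    have hd1 : (d : G) = 1 := hDA d d.2 (by rw [eq_inv_of_mul_eq_one_left h']; exact inv_mem a.2)
    rw [hd1, one_mul] at h'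
    exact Prod.ext (Subtype.ext hd1) (Subtype.ext h')
  have hμs : Function.Surjective μ := by
    intro x
    obtain ⟨i, m, hm, rfl⟩ := hgen x
    -- `m * y ^ (-l)` is central for a suitable `l`
    have hmem : ⁅g, m⁆ ∈ Subgroup.zpowers ⁅g, y⁆ := by
      rw [hprime (Subgroup.zpowers ⁅g, y⁆) (Subgroup.zpowers_le.2 (hc g y)) _
        (Subgroup.mem_zpowers _) hgy]
      exact hc g m
    obtain ⟨l, hl⟩ := hmem
    have hcm : (y ^ l)⁻¹ * m ∈ Subgroup.center G := by
      refine hcenter _ ?_ ?_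
      · exact (((Commute.refl y).zpow_left l).inv_left.mul_left hm).eq
      · refine (commutatorElement_eq_one_iff_mul_comm.1 ?_).symm
        show τ ((y ^ l)⁻¹ * m) = 1
        rw [map_mul, map_inv, map_zpow, inv_mul_eq_one]
        exact hl
    rw [← hAZC, ← SetLike.mem_coe, Subgroup.mul_normal A Z] at hcm
    obtain ⟨a, ha, z, hz, haz⟩ := hcm
    refine ⟨(⟨g ^ i * (y ^ l * z), mul_mem (pow_mem hgD i)
      (mul_mem (zpow_mem hyD l) (hZD hz))⟩, ⟨a, ha⟩), ?_⟩
    show g ^ i * (y ^ l * z) * a = g ^ i * m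
    rw [mul_assoc, mul_assoc, ← (Subgroup.mem_center_iff.1 (hAC ha) z).symm]
    rw [show a * z = (y ^ l)⁻¹ * m from haz, mul_inv_cancel_left]
  have hcardG : Nat.card G = Nat.card D * Nat.card A := by
    rw [← Nat.card_prod]
    exact (Nat.card_congr (Equiv.ofBijective μ ⟨hμi, hμs⟩)).symm
  have hcardc : Nat.card (Subgroup.center G) = Nat.card A * p := by
    let κ : A × Z →* G := MonoidHom.mk' (fun x => (x.1 : G) * x.2) fun a b => by
      show (a.1 : G) * b.1 * ((a.2 : G) * b.2) = a.1 * a.2 * (b.1 * b.2)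
      rw [mul_assoc, ← mul_assoc (b.1 : G), hcent _ a.2.2 (b.1 : G)]
      simp only [mul_assoc]
    have hκi : Function.Injective κ := by
      rw [injective_iff_map_eq_one]
      rintro ⟨a, z⟩ h
      have h' : (a : G) * z = 1 := h
      have ha1 : (a : G) = 1 := Subgroup.mem_bot.1 (hAZ.le
        (Subgroup.mem_inf.2 ⟨a.2, by rw [eq_inv_of_mul_eq_one_left h']; exact inv_mem z.2⟩))
      rw [ha1, one_mul] at h'
      exact Prod.ext (Subtype.ext ha1) (Subtype.ext h')
    have hκr : κ.range = Subgroup.center G := by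
      refine le_antisymm ?_ ?_
      · rintro _ ⟨x, rfl⟩
        exact mul_mem (hAC x.1.2) (hZc x.2.2)
      · rw [← hAZC]
        exact sup_le (fun a ha => ⟨(⟨a, ha⟩, 1), mul_one _⟩) fun z hz => ⟨(1, ⟨z, hz⟩), one_mul _⟩
    rw [← hκr, Nat.card_congr (MonoidHom.ofInjective hκi).toEquiv.symm, Nat.card_prod, hZ]
  have hcardD : Nat.card D = p ^ 3 := by
    refine Nat.eq_of_mul_eq_mul_right (Nat.card_pos (α := A)) ?_
    rw [← hcardG, ← Subgroup.card_mul_index (Subgroup.center G),
      ← Subgroup.relIndex_mul_index hcM, hcidx, hMidx, hcardc]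
    ring
  have hDna : ¬ IsMulCommutative D := fun h =>
    hgy' (congrArg Subtype.val (h.is_comm.comm ⟨g, hgD⟩ ⟨y, hyD⟩))
  refine ⟨D, A, ⟨(MulEquiv.ofBijective μ ⟨hμi, hμs⟩).symm⟩,
    fun a b => Subtype.ext (Subgroup.mem_center_iff.1 (hAC b.2) a),
    fun a => Subtype.ext (hMe a (Subgroup.mem_center_iff.1 (hAC a.2) y).symm), hcardD, hDna,
    ?_, ?_⟩
  · intro hp2 x
    obtain ⟨i, m, hm, hx⟩ := hgen x
    refine Subtype.ext ?_
    show (x : G) ^ p = 1
    rw [hx, show (g ^ i * m) ^ p = CfsgLib.FusionEssential.pPowHom hp2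
      (fun a b => hZc (hc a b)) (fun a b => hZe _ (hc a b)) (g ^ i * m) from rfl, map_mul, map_pow]
    simp [hgp, hMe m hm]
  · rintro rfl
    have hy2 : y * y = 1 := by rw [← sq]; exact hMe y rfl
    have hg2 : g * g = 1 := by rw [← sq]; exact hgp
    have hgi : g⁻¹ = g := inv_eq_of_mul_eq_one_right hg2
    have hyi : y⁻¹ = y := inv_eq_of_mul_eq_one_right hy2
    have hgy2 : (g * y) ^ 2 = ⁅g, y⁆ := by
      rw [commutatorElement_def, hgi, hyi, sq]; simp only [mul_assoc]
    have hord : orderOf (g * y) = 4 := by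
      refine orderOf_eq_prime_pow (p := 2) (n := 1) ?_ ?_
      · rw [pow_one, hgy2]; exact hgy
      · rw [show 2 ^ (1 + 1) = 2 * 2 from rfl, pow_mul, hgy2, hZe _ (hc g y)]
    refine CfsgLib.TwoGroups.nonempty_equiv_dihedral (a := g * y) (b := g) (mul_mem hgD hyD) hgD
      hord hg2 ?_ ?_ (by rw [hcardD]; norm_num)
    · rw [mul_inv_rev, hgi, hyi, ← mul_assoc g, hg2, one_mul]
    · intro hmem
      have h1 : Commute g (g * y) := by
        obtain ⟨l, hl⟩ := hmem
        have h := (Commute.refl (g * y)).zpow_left l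
        change (g * y) ^ l = g at hl
        rwa [hl] at h
      have h2 := h1.eq
      rw [← mul_assoc, hg2, one_mul, mul_assoc] at h2
      exact hgy' (by rw [show y * g = g * (g * (y * g)) by rw [← mul_assoc, hg2, one_mul], ← h2])

end CfsgLib.FusionExtraCentre
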