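import Mathlib.GroupTheory.PGroup
import Mathlib.Algebra.Field.ZMod
import Mathlib.Algebra.Group.End
import Mathlib.GroupTheory.OrderOfElement
import Mathlib.Tactic.LinearCombination

/-!
# An inversion in the group generated by two transvections
-/

set_option autoImplicit false

namespace CfsgLib.FusionExtraCentre

variable {M : Type*} [CommGroup M]

theorem transvection_pow {u : MulAut M} {x z : M} {i : ℕ} (hz : u z = z) (hx : u x = x * z ^ i)
    (n : ℕ) : (u ^ n) x = x * z ^ (n * i) := by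
  induction n with
  | zero => simp
  | succ n ih =>
    rw [pow_succ', MulAut.mul_apply, ih, map_mul, map_pow, hz, hx, mul_assoc, ← pow_add]
    congr 2
    ring

/-- Two transvections whose centres are not in each other's axis generate an automorphism which
inverts both centres and commutes with them. -/
theorem exists_inverting {p : ℕ} [hp : Fact p.Prime] (hexp : ∀ x : M, x ^ p = 1) {A : Subgroup (MulAut M)}
    {u w : MulAut M} (hu : u ∈ A) (hw : w ∈ A) {z y : M} (huz : u z = z) (hwy : w y = y)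
    (hux : ∀ x, ∃ i : ℕ, u x = x * z ^ i) (hwx : ∀ x, ∃ j : ℕ, w x = x * y ^ j)
    (huy : u y ≠ y) (hwz : w z ≠ z) :
    ∃ r ∈ A, r z = z⁻¹ ∧ r y = y⁻¹ ∧ ∀ x, r (u x) = u (r x) := by
  -- normalise so that `u y = y * z'`
  obtain ⟨a, ha⟩ := hux y
  have hna : ¬ p ∣ a := fun ⟨c, hc⟩ => huy (by rw [ha, hc, pow_mul, hexp, one_pow, mul_one])
  have ha0 : (a : ZMod p) ≠ 0 := by rwa [Ne, ZMod.natCast_eq_zero_iff]
  set z' := z ^ a with hz'
  have hzp : ∀ i j : ℕ, ∀ t : M, (i : ZMod p) = j → t ^ i = t ^ j := fun i j t h => by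
    rw [pow_eq_pow_iff_modEq]
    exact Nat.ModEq.of_dvd (orderOf_dvd_of_pow_eq_one (hexp t))
      ((ZMod.natCast_eq_natCast_iff _ _ _).1 h)
  have hzz' : ∃ c : ℕ, z = z' ^ c := by
    refine ⟨((a : ZMod p)⁻¹).val, ?_⟩
    rw [hz', ← pow_mul]
    conv_lhs => rw [← pow_one z]
    refine hzp _ _ _ ?_
    push_cast [ZMod.natCast_val, ZMod.cast_id]
    rw [mul_inv_cancel₀ ha0]
  obtain ⟨c, hc⟩ := hzz'
  have huz' : u z' = z' := by rw [hz', map_pow, huz]
  have huy' : u y = y * z' := ha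
  have hux' : ∀ x, ∃ i : ℕ, u x = x * z' ^ i := fun x => by
    obtain ⟨i, hi⟩ := hux x
    exact ⟨c * i, by rw [hi, hc, pow_mul]⟩
  -- normalise so that `v z' = z' * y⁻¹`
  obtain ⟨b, hb⟩ := hwx z'
  have hnb : ¬ p ∣ b := fun ⟨d, hd⟩ => hwz (by
    rw [hc, map_pow, hb, hd, pow_mul, hexp, one_pow, mul_one])
  have hb0 : (b : ZMod p) ≠ 0 := by rwa [Ne, ZMod.natCast_eq_zero_iff]
  set k := (-(b : ZMod p)⁻¹).val with hk
  set v := w ^ k with hv
  have hvy : v y = y := by
    have h := transvection_pow (u := w) (x := y) (z := y) (i := 0) hwy (by simpa using hwy) k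
    simpa using h
  have hkb : y ^ (k * b) * y = 1 := by
    rw [← pow_succ, ← pow_zero y]
    refine hzp _ _ _ ?_
    push_cast [hk, ZMod.natCast_val, ZMod.cast_id]
    rw [neg_mul, inv_mul_cancel₀ hb0]
    ring
  have hvz : v z' = z' * y⁻¹ := by
    rw [hv, transvection_pow hwy hb k, eq_inv_of_mul_eq_one_left hkb]
  have hvx : ∀ x, ∃ j : ℕ, v x = x * y ^ j := fun x => by
    obtain ⟨j, hj⟩ := hwx x
    exact ⟨k * j, transvection_pow hwy hj k⟩
  set r₀ := u * v * u with hr₀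
  have hr0z : r₀ z' = y⁻¹ := by
    simp only [hr₀, MulAut.mul_apply, huz', hvz, map_mul, map_inv, huy', mul_inv_rev]
    rw [mul_inv_cancel_left]
  have hr0y : r₀ y = z' := by
    simp only [hr₀, MulAut.mul_apply, huy', hvy, hvz, map_mul, map_inv, huz', mul_inv_rev]
    rw [mul_inv_cancel_left, mul_comm y z', mul_inv_cancel_right]
  set r := r₀ * r₀ with hr
  have hrz' : r z' = z'⁻¹ := by rw [hr, MulAut.mul_apply, hr0z, map_inv, hr0y]
  have hry : r y = y⁻¹ := by rw [hr, MulAut.mul_apply, hr0y, hr0z]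
  have hAv : v ∈ A := pow_mem hw k
  refine ⟨r, mul_mem (mul_mem (mul_mem hu hAv) hu) (mul_mem (mul_mem hu hAv) hu), ?_, hry, ?_⟩
  · rw [hc, map_pow, hrz', inv_pow]
  intro x
  obtain ⟨i, hi⟩ := hux' x
  obtain ⟨j, hj⟩ := hvx x
  -- `x = y ^ i * z'⁻¹ ^ j * x₀` with `x₀` fixed by `u` and `v`
  obtain ⟨n, x₀, rfl, hn, hn0u, hn0v⟩ : ∃ n x₀ : M, x = n * x₀ ∧ r (u n) = u (r n) ∧
      u x₀ = x₀ ∧ v x₀ = x₀ := by
    set n := y ^ i * (z' ^ j)⁻¹ with hndef
    have hun : u n = n * z' ^ i := by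
      simp only [hndef, map_mul, map_pow, map_inv, huy', huz', mul_pow]
      ac_rfl
    have hvn : v n = n * y ^ j := by
      simp only [hndef, map_mul, map_pow, map_inv, hvy, hvz, mul_pow, inv_pow, mul_inv, inv_inv]
      simp only [mul_comm, mul_left_comm, mul_assoc]
    have key : ∀ a b t : M, (a * b)⁻¹ * (t * b) = a⁻¹ * t := fun a b t => by
      rw [mul_inv, mul_mul_mul_comm, inv_mul_cancel, mul_one]
    refine ⟨n, n⁻¹ * x, by rw [mul_inv_cancel_left], ?_, ?_, ?_⟩
    · simp only [hndef, map_mul, map_pow, map_inv, hrz', hry, huy', huz', mul_pow, inv_pow, mul_inv,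
        inv_inv]
    · rw [map_mul, map_inv, hun, hi, key]
    · rw [map_mul, map_inv, hvn, hj, key]
  rw [map_mul, map_mul, hn, hn0u, map_mul, map_mul]
  have hrx0 : r x₀ = x₀ := by
    simp only [hr, hr₀, MulAut.mul_apply, hn0u, hn0v]
  rw [hrx0, hn0u]

end CfsgLib.FusionExtraCentre
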