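import Cfsg.Agent.FusionExtraCentre.Split
import Cfsg.Agent.FusionExtraCentre.Transvection
import Cfsg.Agent.FusionOmega.SmallOmega
import Cfsg.Agent.FusionSeries.WeaklyClosed
import Cfsg.Agent.FusionClosed.StronglyClosed

/-!
# Strongly closed subgroups with derived and Frattini subgroup of order `p`
-/

set_option autoImplicit false
set_option linter.style.haveILetI false

namespace CfsgLib.FusionExtraCentre

open Cfsg Cfsg.FusionSystem CfsgLib.Fusion
open scoped commutatorElement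

variable {Ω : Type*} [Group Ω] {S P : Subgroup Ω} {F : FusionSystem S} {p : ℕ}

theorem exists_pow_eq_of_card_prime [Fact p.Prime] {G : Type*} [Group G] {Z : Subgroup G}
    (hZ : Nat.card Z = p) {a b : G} (ha : a ∈ Z) (hb : b ∈ Z) (ha1 : a ≠ 1) :
    ∃ k : ℕ, a ^ k = b := by
  obtain ⟨k, hk⟩ := mem_powers_of_prime_card (G := Z) hZ (g := ⟨a, ha⟩) (g' := ⟨b, hb⟩)
    fun h => ha1 (congrArg Subtype.val h)
  exact ⟨k, congrArg Subtype.val hk⟩

/-- The data of a conjugate `y` of `z ∈ P'` which lies outside `P'`. -/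
theorem weaklyClosed_commutator [Finite S] [Fact p.Prime] (hS : IsPGroup p S)
    (hF : F.IsSaturated p) (hP : F.StronglyClosed P) (hfr : frattini ↥P = commutator ↥P)
    (hcard : Nat.card ↥(commutator ↥P) = p)
    (hnosplit : ∀ g y : P, (∀ x, ∃ (i : ℕ) (m : P), m * y = y * m ∧ x = g ^ i * m) →
      (∀ a b : P, a * y = y * a → b * y = y * b → a * b = b * a) →
      (∀ a : P, a * y = y * a → a ^ p = 1) → ⁅g, y⁆ ≠ 1 → g ^ p = 1 → False) :
    F.WeaklyClosed ⁅P, P⁆ := by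
  classical
  have hp : p.Prime := Fact.out
  haveI := finite_of_le hP.1
  set Z := ⁅P, P⁆ with hZdef
  have hZP : Z ≤ P := P.commutator_le_self
  have hZS : Z ≤ S := hZP.trans hP.1
  have hZmap : Z = (commutator ↥P).map P.subtype := (P.map_subtype_commutator).symm
  have hZcard : Nat.card Z = p := by
    rw [hZmap, Subgroup.card_map_of_injective P.subtype_injective, hcard]
  haveI := finite_of_le hZS
  have hcomm : ∀ a ∈ P, ∀ b ∈ P, ⁅a, b⁆ ∈ Z := fun a ha b hb =>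
    Subgroup.commutator_mem_commutator ha hb
  have hPp : IsPGroup p P := hS.to_le hP.1
  have hpowZ : ∀ a ∈ P, a ^ p ∈ Z := fun a ha => by
    rw [hZmap]
    exact ⟨(⟨a, ha⟩ : P) ^ p, hfr ▸ CfsgLib.Solvable.pow_mem_frattini hPp _, rfl⟩
  have hPn : S ≤ Subgroup.normalizer (P : Set Ω) := stronglyClosed_le_normalizer hP
  have hZn : S ≤ Subgroup.normalizer (Z : Set Ω) := fun c hc =>
    CfsgLib.FusionOmega.mem_normalizer_commutator (hPn hc) (hPn hc)
  have hZcent : S ≤ Subgroup.centralizer (Z : Set Ω) :=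
    CfsgLib.FusionOmega.le_centralizer_of_card_prime hS hZS hZn hZcard
  have hZc : ∀ z ∈ Z, ∀ a ∈ S, a * z = z * a := fun z hz a ha =>
    (Subgroup.mem_centralizer_iff.1 (hZcent ha) z hz).symm
  have hrec : F.IsReceptive Z := receptive_of_fullyCentralized hS hF
    ⟨hZS, fun Q _ => by
      haveI := finite_of_le (centralizerIn_le S Z)
      exact Subgroup.card_le_of_le fun c hc => ⟨hc.1, hZcent hc.1⟩⟩
  have hZp : ∀ n ∈ Z, n ^ p = 1 := fun n hn => by
    have h : (⟨n, hn⟩ : Z) ^ Nat.card Z = 1 := pow_card_eq_one'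
    rw [hZcard] at h
    exact congrArg Subtype.val h
  have hgen : ∀ a ∈ Z, a ≠ 1 → ∀ b ∈ Z, ∃ k : ℕ, a ^ k = b := fun a ha ha1 b hb =>
    exists_pow_eq_of_card_prime hZcard ha hb ha1
  -- a map defined on `Z` can be reversed to the centralizer of its image
  have hback : ∀ {φ : Z →* Ω}, φ ∈ F.Hom Z → ∀ (T : Subgroup Ω), T ≤ S →
      (∀ t ∈ T, ∀ x : Z, t * φ x = φ x * t) →
      ∃ ψ ∈ F.Hom T, ∀ (x : Z) (hx : φ x ∈ T), ψ ⟨φ x, hx⟩ = x := by
    intro φ hφ T hT hTc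
    obtain ⟨e, he, heφ⟩ := exists_iso_range hφ
    have hTle : T ≤ extender S φ.range (Z.subtype.comp e.symm.toMonoidHom) :=
      (show T ≤ centralizerIn S φ.range from fun t ht => ⟨hT ht,
        Subgroup.mem_centralizer_iff.2 (by
          rintro _ ⟨x, rfl⟩
          exact (hTc t ht x).symm)⟩).trans (centralizerIn_le_extender _)
    obtain ⟨ψ, hψ, hψe⟩ := exists_extension hrec he.symm hTle
    refine ⟨ψ, hψ, fun x hx => ?_⟩
    rw [hψe ⟨φ x, x, rfl⟩ hx, show (⟨φ x, x, rfl⟩ : φ.range) = e x from Subtype.ext (heφ x).symm,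
      MulEquiv.symm_apply_apply]
  -- central conjugates
  have hA : ∀ {φ : Z →* Ω}, φ ∈ F.Hom Z → ∀ x : Z, x ≠ 1 →
      (∀ t ∈ P, t * φ x = φ x * t) → φ x ∈ Z := by
    intro φ hφ x hx1 hxc
    have hTc : ∀ t ∈ P, ∀ x' : Z, t * φ x' = φ x' * t := by
      intro t ht x'
      obtain ⟨k, hk⟩ := hgen x x.2 (fun h => hx1 (Subtype.ext h)) x' x'.2
      rw [show x' = x ^ k from Subtype.ext hk.symm, map_pow]
      exact ((show Commute t (φ x) from hxc t ht).pow_right k).eq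
    obtain ⟨ψ, hψ, hψφ⟩ := hback hφ P hP.1 hTc
    have hxP : φ x ∈ P := hP.2 Z hZP φ hφ x
    have hψZ : ∀ w : P, (w : Ω) ∈ Z → ψ w ∈ Z := by
      intro w hw
      rw [hZmap] at hw
      obtain ⟨w', hw', hww⟩ := hw
      obtain rfl : w' = w := Subtype.ext hww
      have hle : commutator ↥P ≤ Z.comap ψ := by
        rw [commutator_def, Subgroup.commutator_le]
        intro a _ b _
        rw [Subgroup.mem_comap, map_commutatorElement]
        exact hcomm _ (hP.2 P le_rfl ψ hψ a) _ (hP.2 P le_rfl ψ hψ b)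
      exact hle hw'
    let ψZ : Z →* Z := (restrictHom ψ hZP).codRestrict Z fun w => hψZ ⟨w, hZP w.2⟩ w.2
    have hψi : Function.Injective ψZ := fun a b h =>
      F.injective_of_mem (restrict_mem hψ hZP) (congrArg Subtype.val h)
    obtain ⟨n, hn⟩ := Finite.surjective_of_injective hψi x
    have h1 : ψ ⟨n, hZP n.2⟩ = ψ ⟨φ x, hxP⟩ := by
      rw [hψφ x hxP]
      exact congrArg Subtype.val hn
    have h2 : (n : Ω) = φ x := congrArg Subtype.val (F.injective_of_mem hψ h1)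
    exact h2 ▸ n.2
  refine ⟨hZS, fun φ hφ => ?_⟩
  by_contra hne
  obtain ⟨x, hxZ⟩ : ∃ x : Z, φ x ∉ Z := by
    by_contra h
    push Not at h
    refine hne (Subgroup.eq_of_le_of_card_ge ?_ ?_)
    · rintro _ ⟨w, rfl⟩; exact h w
    · exact (Nat.card_congr (MonoidHom.ofInjective (F.injective_of_mem hφ)).toEquiv).le
  have hx1 : x ≠ 1 := fun h => hxZ (by rw [h, map_one]; exact one_mem _)
  set y := φ x with hydef
  have hyP : y ∈ P := hP.2 Z hZP φ hφ x
  have hy1 : y ≠ 1 := fun h => hxZ (by rw [h]; exact one_mem _)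
  obtain ⟨g, hgP, hgy⟩ : ∃ g ∈ P, g * y ≠ y * g := by
    by_contra h
    push Not at h
    exact hxZ (hA hφ x hx1 h)
  have hgy1 : ⁅g, y⁆ ≠ 1 := fun h => hgy (commutatorElement_eq_one_iff_mul_comm.1 h)
  let M : Subgroup Ω := P ⊓ Subgroup.centralizer {y}
  have hM : ∀ a, a ∈ M ↔ a ∈ P ∧ a * y = y * a := fun a => by
    simp [M, Subgroup.mem_centralizer_iff, eq_comm]
  have hMP : M ≤ P := inf_le_left
  have hZM : Z ≤ M := fun z hz => (hM z).2 ⟨hZP hz, (hZc z hz y (hP.1 hyP)).symm⟩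
  have hTc : ∀ t ∈ M, ∀ x' : Z, t * φ x' = φ x' * t := by
    intro t ht x'
    obtain ⟨k, hk⟩ := hgen x x.2 (fun h => hx1 (Subtype.ext h)) x' x'.2
    rw [show x' = x ^ k from Subtype.ext hk.symm, map_pow]
    exact ((show Commute t (φ x) from ((hM t).1 ht).2).pow_right k).eq
  obtain ⟨ψ, hψ, hψφ⟩ := hback hφ M (hMP.trans hP.1) hTc
  have hψP : ∀ m : M, ψ m ∈ P := fun m => hP.2 M hMP ψ hψ m
  have hyM : y ∈ M := (hM y).2 ⟨hyP, rfl⟩
  have hψy : ψ ⟨y, hyM⟩ = (x : Ω) := hψφ x hyM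
  -- `ψ` moves every non-trivial element of `Z` to a non-central element
  have hψZ : ∀ w : M, (w : Ω) ∈ Z → (∀ t ∈ P, t * ψ w = ψ w * t) → w = 1 := by
    intro w hw hwc
    by_contra hw1
    have hφ' : restrictHom ψ hZM ∈ F.Hom Z := restrict_mem hψ hZM
    have h1 : ψ w ∈ Z := hA hφ' ⟨w, hw⟩ (fun h => hw1 (Subtype.ext (congrArg Subtype.val h :))) hwc
    have hx1' : (x : Ω) ≠ 1 := fun h => hx1 (Subtype.ext h)
    obtain ⟨k, hk⟩ := hgen x x.2 hx1' _ h1
    rw [← hψy, ← map_pow] at hk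
    exact hxZ (by
      have h2 : (w : Ω) = y ^ k := (congrArg Subtype.val (F.injective_of_mem hψ hk)).symm
      have hw1' : y ^ k ≠ 1 := fun h => hw1 (Subtype.ext (h2.trans h))
      obtain ⟨l, hl⟩ := exists_pow_eq_of_card_prime (p := p) (Z := Subgroup.zpowers y)
        (by
          rw [Nat.card_zpowers]
          refine orderOf_eq_prime ?_ hy1
          rw [hydef, ← map_pow, show x ^ p = 1 by rw [← hZcard]; exact pow_card_eq_one', map_one])
        (Subgroup.pow_mem _ (Subgroup.mem_zpowers y) k) (Subgroup.mem_zpowers y) hw1'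
      rw [← h2] at hl
      rw [← hl]
      exact pow_mem hw l)
  have hMc : ∀ a ∈ M, ∀ b ∈ M, a * b = b * a := by
    intro a ha b hb
    rw [← commutatorElement_eq_one_iff_mul_comm]
    have h := hψZ ⁅(⟨a, ha⟩ : M), ⟨b, hb⟩⁆ (hcomm a (hMP ha) b (hMP hb)) fun t ht => by
      rw [map_commutatorElement]
      exact hZc _ (hcomm _ (hψP _) _ (hψP _)) t (hP.1 ht)
    exact congrArg Subtype.val h
  have hMe : ∀ a ∈ M, a ^ p = 1 := by
    intro a ha
    have h := hψZ ((⟨a, ha⟩ : M) ^ p) (hpowZ a (hMP ha)) fun t ht => by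
      rw [map_pow]
      exact hZc _ (hpowZ _ (hψP _)) t (hP.1 ht)
    exact congrArg Subtype.val h
  have hgenP : ∀ g' ∈ P, g' * y ≠ y * g' → ∀ a ∈ P, ∃ i : ℕ, (g' ^ i)⁻¹ * a ∈ M := by
    intro g' hg' hg'y a ha
    obtain ⟨i, hi⟩ := exists_pow_eq_of_card_prime hZcard (hcomm g' hg' y hyP) (hcomm a ha y hyP)
      (fun h => hg'y (commutatorElement_eq_one_iff_mul_comm.1 h))
    refine ⟨i, (hM _).2 ⟨mul_mem (inv_mem (pow_mem hg' i)) ha, ?_⟩⟩
    rw [← commutatorElement_eq_one_iff_mul_comm]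
    let σ : P →* Ω := MonoidHom.mk' (fun b => ⁅(b : Ω), y⁆) fun b c => by
      show ⁅(b : Ω) * c, y⁆ = ⁅(b : Ω), y⁆ * ⁅(c : Ω), y⁆
      have h : ⁅(b : Ω) * c, y⁆ = b * ⁅(c : Ω), y⁆ * (b : Ω)⁻¹ * ⁅(b : Ω), y⁆ := by
        simp only [commutatorElement_def]; group
      rw [h, hZc _ (hcomm _ c.2 y hyP) b (hP.1 b.2), mul_inv_cancel_right,
        hZc _ (hcomm _ b.2 y hyP) _ (hP.1 (hZP (hcomm _ c.2 y hyP)))]
    show σ ((⟨g', hg'⟩ ^ i)⁻¹ * ⟨a, ha⟩) = 1
    rw [map_mul, map_inv, map_pow, inv_mul_eq_one]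
    exact hi
  -- no element of order `p` outside `M`
  have homega : ∀ a ∈ P, a ^ p = 1 → a ∈ M := by
    intro a ha hap
    by_contra haM
    have hay : a * y ≠ y * a := fun h => haM ((hM a).2 ⟨ha, h⟩)
    refine hnosplit ⟨a, ha⟩ ⟨y, hyP⟩ ?_ ?_ ?_ ?_ (Subtype.ext hap)
    · intro b
      obtain ⟨i, hi⟩ := hgenP a ha hay b b.2
      refine ⟨i, ⟨_, hMP hi⟩, Subtype.ext ((hM _).1 hi).2, Subtype.ext ?_⟩
      show (b : Ω) = a ^ i * ((a ^ i)⁻¹ * b)
      rw [mul_inv_cancel_left]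
    · exact fun b c hb hc => Subtype.ext (hMc b ((hM _).2 ⟨b.2, congrArg Subtype.val hb⟩) c
        ((hM _).2 ⟨c.2, congrArg Subtype.val hc⟩))
    · exact fun b hb => Subtype.ext (hMe b ((hM _).2 ⟨b.2, congrArg Subtype.val hb⟩))
    · exact fun h => hay (congrArg Subtype.val (commutatorElement_eq_one_iff_mul_comm.1 h))
  have hgp : g ^ p ≠ 1 := fun h => hgy ((hM g).1 (homega g hgP h)).2
  have hp2 : p ≠ 2 := by
    rintro rfl
    -- `g ^ 2 = ⁅g, y⁆`, so `g * y` is an involution outside `M`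
    refine hgy ?_
    have hy2 : y * y = 1 := by rw [← sq]; exact hMe y hyM
    have hyi : y⁻¹ = y := inv_eq_of_mul_eq_one_right hy2
    have hgyP : g * y ∈ P := mul_mem hgP hyP
    obtain ⟨k, hk⟩ := hgen _ (hpowZ g hgP) hgp _ (hcomm g hgP y hyP)
    have hz2 : (g ^ 2) ^ 2 = 1 := by
      exact hZp _ (hpowZ g hgP)
    have hk' : g ^ 2 = ⁅g, y⁆ := by
      rcases Nat.mod_two_eq_zero_or_one k with h | h
      · exfalso
        rw [← Nat.div_add_mod k 2, h, add_zero, pow_mul, hz2, one_pow] at hk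
        exact hgy1 hk.symm
      · rw [← Nat.div_add_mod k 2, h, pow_succ, pow_mul, hz2, one_pow, one_mul] at hk
        exact hk
    have hc2 : g * y * g⁻¹ = g ^ 2 * y := by
      rw [hk', commutatorElement_def, inv_mul_cancel_right]
    have hinv : (g * y) ^ 2 = 1 := by
      have hc3 : g * y = g ^ 2 * y * g := by rw [← hc2, inv_mul_cancel_right]
      have hcz : y * g ^ 2 = g ^ 2 * y := hZc _ (hpowZ g hgP) y (hP.1 hyP)
      rw [sq (g * y)]
      nth_rw 1 [hc3]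
      rw [show g ^ 2 * y * g * (g * y) = g ^ 2 * (y * g ^ 2) * y by rw [sq]; simp only [mul_assoc],
        hcz, mul_assoc, mul_assoc, hy2, mul_one, ← pow_two, hz2]
    have h2 := ((hM _).1 (homega _ hgyP hinv)).2
    rw [← mul_assoc y g y] at h2
    exact mul_right_cancel h2
  -- `M` is strongly closed, and `Aut_F(M)` contains an inversion of `⟨z, y⟩`
  have hMS : M ≤ S := hMP.trans hP.1
  haveI := finite_of_le hMS
  have hMsc : F.StronglyClosed M := ⟨hMS, fun R hR φ' hφ' a => homega _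
    (hP.2 R (hR.trans hMP) φ' hφ' a) (by
      rw [← map_pow, show a ^ p = 1 from Subtype.ext (hMe _ (hR a.2)), map_one])⟩
  have hMn : S ≤ Subgroup.normalizer (M : Set Ω) := stronglyClosed_le_normalizer hMsc
  have hψrange : ψ.range = M := by
    haveI : Finite ψ.range := Finite.of_equiv M
      (MonoidHom.ofInjective (F.injective_of_mem hψ)).toEquiv
    refine Subgroup.eq_of_le_of_card_ge ?_ ?_
    · rintro _ ⟨a, rfl⟩; exact hMsc.2 M le_rfl ψ hψ a
    · exact (Nat.card_congr (MonoidHom.ofInjective (F.injective_of_mem hψ)).toEquiv).le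
  obtain ⟨Ψ, hΨ, hΨψ⟩ := exists_iso hψ hψrange
  letI : CommGroup M :=
    { (inferInstance : Group M) with mul_comm := fun a b => Subtype.ext (hMc a a.2 b b.2) }
  let z : M := ⟨x, hZM x.2⟩
  let yM : M := ⟨y, hyM⟩
  have hΨy : Ψ yM = z := Subtype.ext ((hΨψ _).trans hψy)
  let u : MulAut M := M.normalizerMonoidHom ⟨g, hMn (hP.1 hgP)⟩
  have hu : u ∈ F.autGroup M := autInducedBy_le_autGroup hMS
    (mem_autInducedBy_iff.2 ⟨g, hP.1 hgP, hMn (hP.1 hgP), fun _ => rfl⟩)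
  have huval : ∀ a : M, ((u a : M) : Ω) = g * a * g⁻¹ := fun a => rfl
  have huz : u z = z := Subtype.ext (by
    rw [huval, hZc x x.2 g (hP.1 hgP), mul_inv_cancel_right])
  have hux : ∀ a : M, ∃ i : ℕ, u a = a * z ^ i := by
    intro a
    obtain ⟨i, hi⟩ := hgen x x.2 (fun h => hx1 (Subtype.ext h)) _ (hcomm g hgP a (hMP a.2))
    refine ⟨i, Subtype.ext ?_⟩
    show g * a * g⁻¹ = a * (x : Ω) ^ i
    rw [hi, ← hZc _ (hcomm g hgP a (hMP a.2)) a (hMS a.2) |>.symm, commutatorElement_def,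
      inv_mul_cancel_right]
  let w : MulAut M := (Ψ : MulAut M)⁻¹ * u * (Ψ : MulAut M)
  have hw : w ∈ F.autGroup M := mul_mem (mul_mem (inv_mem hΨ.mem_autGroup) hu) hΨ.mem_autGroup
  have hΨinv : (Ψ : MulAut M)⁻¹ z = yM := by rw [← hΨy]; exact Ψ.symm_apply_apply yM
  have hwy : w yM = yM := by
    show (Ψ : MulAut M)⁻¹ (u (Ψ yM)) = yM
    rw [hΨy, huz, hΨinv]
  have hwx : ∀ a : M, ∃ j : ℕ, w a = a * yM ^ j := by
    intro a
    obtain ⟨j, hj⟩ := hux (Ψ a)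
    refine ⟨j, ?_⟩
    show (Ψ : MulAut M)⁻¹ (u (Ψ a)) = _
    rw [hj, map_mul, map_pow, hΨinv]
    congr 1
    exact Ψ.symm_apply_apply a
  have huy : u yM ≠ yM := fun h => hgy (mul_inv_eq_iff_eq_mul.1 (congrArg Subtype.val h))
  have hwz : w z ≠ z := by
    intro h
    have h1 : u (Ψ z) = Ψ z := (Ψ : MulAut M)⁻¹.injective (h.trans (Ψ.symm_apply_apply z).symm)
    have hcen : ∀ t ∈ P, t * ψ z = ψ z * t := by
      intro t ht
      obtain ⟨i, hi⟩ := hgenP g hgP hgy t ht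
      have hg : Commute g (ψ z) := by
        rw [← hΨψ z]
        exact mul_inv_eq_iff_eq_mul.1 (congrArg Subtype.val h1)
      have hψzM : ψ z ∈ M := hψrange.le ⟨z, rfl⟩
      have h3 : Commute ((g ^ i)⁻¹ * t) (ψ z) := hMc _ hi _ hψzM
      have h4 := (hg.pow_left i).mul_left h3
      rwa [mul_inv_cancel_left] at h4
    exact hx1 (Subtype.ext (congrArg Subtype.val (hψZ z x.2 hcen) :))
  obtain ⟨r, hr, hrz, hry, hru⟩ := exists_inverting (p := p)
    (fun a : M => Subtype.ext (hMe a a.2)) hu hw huz hwy hux hwx huy hwz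
  -- extend `r` to `P`
  have hMfn : F.IsFullyNormalized M := ⟨hMS, fun Q _ => by
    haveI := finite_of_le (normalizerIn_le S M)
    exact Subgroup.card_le_of_le fun c hc => ⟨hc.1, hMn hc.1⟩⟩
  have hriso : IsIso F r := (mem_autGroup_iff hMS).1 hr
  have hg1 : g ∈ extender S M (M.subtype.comp r.toMonoidHom) :=
    mem_extender_iff.2 ⟨hP.1 hgP, hMn (hP.1 hgP), g, hP.1 hgP, fun a ha => by
      show ((r ⟨g * a * g⁻¹, ha⟩ : M) : Ω) = g * ((r a : M) : Ω) * g⁻¹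
      rw [← huval (r a), ← hru a]
      rfl⟩
  have hPle : P ≤ extender S M (M.subtype.comp r.toMonoidHom) := by
    intro t ht
    obtain ⟨i, hi⟩ := hgenP g hgP hgy t ht
    rw [show t = g ^ i * ((g ^ i)⁻¹ * t) by rw [mul_inv_cancel_left]]
    exact mul_mem (pow_mem hg1 i) (le_extender hMS (fun a => hMS (r a).2) hi)
  obtain ⟨β, hβ, hβr⟩ := exists_extension (automized_receptive hS hF hMfn).2 hriso hPle
  have hβP : ∀ a : P, β a ∈ P := fun a => hP.2 P le_rfl β hβ a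
  have hβz : ∀ (n : Ω) (hn : n ∈ Z), β ⟨n, hZP hn⟩ = n⁻¹ := by
    intro n hn
    obtain ⟨k, hk⟩ := hgen x x.2 (fun h => hx1 (Subtype.ext h)) n hn
    rw [hβr ⟨n, hZM hn⟩ (hZP hn), show (⟨n, hZM hn⟩ : M) = z ^ k from Subtype.ext hk.symm,
      map_pow, hrz, ← hk, ← inv_pow]
    rfl
  set g' := β ⟨g, hgP⟩ with hg'
  have hβy : β ⟨y, hyP⟩ = y⁻¹ := by
    rw [hβr yM hyP, hry]; rfl
  -- `g' ∈ g ^ i * M` with `i ≡ 1`
  obtain ⟨i, hi⟩ := hgenP g hgP hgy g' (hβP _)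
  have hc : ⁅g', y⁻¹⁆ = ⁅g, y⁆⁻¹ := by
    rw [← hβy, hg', ← map_commutatorElement, ← hβz _ (hcomm g hgP y hyP)]
    congr 1
  have hg'i : g' = g ^ i * ((g ^ i)⁻¹ * g') := (mul_inv_cancel_left _ _).symm
  set m := (g ^ i)⁻¹ * g' with hm
  have hci : ∀ i : ℕ, ⁅g ^ i, y⁆ = ⁅g, y⁆ ^ i := by
    intro i
    induction i with
    | zero => simp
    | succ i ih =>
      have h : ⁅g ^ (i + 1), y⁆ = g * ⁅g ^ i, y⁆ * g⁻¹ * ⁅g, y⁆ := by
        simp only [commutatorElement_def, pow_succ']; group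
      have hiz : ⁅g, y⁆ ^ i ∈ Z := pow_mem (hcomm g hgP y hyP) i
      rw [h, ih, hZc _ hiz g (hP.1 hgP), mul_inv_cancel_right, pow_succ]
  have hc2 : ⁅g', y⁻¹⁆ = (⁅g, y⁆ ^ i)⁻¹ := by
    rw [hg'i, ← hci i]
    have hmy : Commute m y := ((hM _).1 hi).2
    have hziZ : ⁅g ^ i, y⁆ ∈ Z := hcomm _ (pow_mem hgP i) y hyP
    have hyc : Commute y ⁅g ^ i, y⁆ := hZc _ hziZ y (hP.1 hyP)
    calc ⁅g ^ i * m, y⁻¹⁆ = g ^ i * (m * y⁻¹ * m⁻¹) * (g ^ i)⁻¹ * y := by
          simp only [commutatorElement_def]; group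
      _ = g ^ i * y⁻¹ * (g ^ i)⁻¹ * y := by rw [hmy.inv_right.eq, mul_inv_cancel_right]
      _ = y⁻¹ * ⁅g ^ i, y⁆⁻¹ * y := by simp only [commutatorElement_def]; group
      _ = ⁅g ^ i, y⁆⁻¹ := by rw [hyc.inv_left.inv_right.eq, inv_mul_cancel_right]
  have hmod : ⁅g, y⁆ ^ i = ⁅g, y⁆ := inv_injective (hc2.symm.trans hc)
  have hcp : orderOf ⁅g, y⁆ = p := by
    refine orderOf_eq_prime ?_ hgy1
    exact hZp _ (hcomm g hgP y hyP)
  have hgpi : (g ^ p) ^ i = g ^ p := by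
    conv_rhs => rw [← pow_one (g ^ p)]
    rw [pow_eq_pow_iff_modEq]
    have h : i ≡ 1 [MOD orderOf ⁅g, y⁆] := pow_eq_pow_iff_modEq.1 (by rw [pow_one]; exact hmod)
    rw [hcp] at h
    exact h.of_dvd (orderOf_dvd_of_pow_eq_one (hZp _ (hpowZ g hgP)))
  have hgpinv : g' ^ p = (g ^ p)⁻¹ := by
    rw [hg', ← map_pow, ← hβz _ (hpowZ g hgP)]
    congr 1
  have hpow : g' ^ p = g ^ p := by
    let f := CfsgLib.FusionEssential.pPowHom (G := P) (p := p) hp2
      (fun a b => Subgroup.mem_center_iff.2 fun c => Subtype.ext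
        (hZc _ (hcomm a a.2 b b.2) c (hP.1 c.2)))
      (fun a b => Subtype.ext (hZp _ (hcomm a a.2 b b.2)))
    have h := congrArg Subtype.val (map_mul f ⟨g ^ i, pow_mem hgP i⟩ ⟨m, hMP hi⟩)
    change (g ^ i * m) ^ p = (g ^ i) ^ p * m ^ p at h
    rw [hg'i, h, hMe m hi, mul_one, ← pow_mul, mul_comm, pow_mul, hgpi]
  have h2 : (g ^ p) ^ 2 = 1 := by
    rw [sq, ← eq_inv_iff_mul_eq_one, ← hgpinv, hpow]
  have hcop : Nat.Coprime 2 p := (Nat.coprime_primes Nat.prime_two hp).2 (Ne.symm hp2)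
  have h3 := Nat.dvd_gcd (orderOf_dvd_of_pow_eq_one h2)
    (orderOf_dvd_of_pow_eq_one (hZp _ (hpowZ g hgP)))
  rw [hcop.gcd_eq_one, Nat.dvd_one, orderOf_eq_one_iff] at h3
  exact hgp h3

end CfsgLib.FusionExtraCentre
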